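import Groth.Agent.CohqA.OAcyc
import Groth.Agent.Ega3B.CombCmp
import Groth.Prelude.Def_Coh

/-!
# Finiteness of the cohomology of the augmented Čech complex of the structure sheaf
-/

set_option autoImplicit false
universe u v

open CategoryTheory TopologicalSpace Opposite Limits AlgebraicGeometry TensorProduct

namespace Groth.Agent.Ega41.CechEFin

open Groth.Agent.Ega3B.CubeData Groth.Agent.Ega3B.CombRes Groth.Agent.CohqA.FlatCpx
open Groth.Agent.CohqA.CechZero Groth.Agent.CohqA.CechK Groth.Agent.CohqA.CechE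

variable {X : Scheme.{u}} {A : Type u} [CommRing A] (φ : A →+* Γ(X, ⊤))
variable {ι : Type} [LinearOrder ι] [Fintype ι] {U : ι → X.Opens}

/-- Finite generation of `H^n(X, O_X)` over `A` through `φ`, in elementary form. -/
def FG (n : ℕ) : Prop :=
  ∃ (k : ℕ) (c : Fin k → Coh.HH X (Coh.structureModule X) n), ∀ x, ∃ r : Fin k → A,
    x = ∑ i, Sheaf.H.map (Coh.smulAb (Coh.structureModule X) (φ (r i))) n (c i)

theorem toK_smul (n : ℕ) (a : A) (x : E φ U (n + 1)) :
    toK φ U n (a • x) = (DD U).Kmap n (Coh.smulAb (Coh.structureModule X) (φ a)).hom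
      (toK φ U n x) := by
  funext b
  rfl

/-- cocycles of the ordered Čech complex -/
noncomputable def toCyc' (n : ℕ) (x : E φ U (n + 1)) (hx : dE φ U (n + 1) x = 0) :
    ((DD U).δ n (GO X)).ker :=
  ⟨toK φ U n x, by
    rw [AddMonoidHom.mem_ker, ← toK_dS]
    exact (congrArg _ hx).trans (map_zero _)⟩

theorem finAt_succ (hU : IsAffCov U) [(Coh.structureModule X).IsQuasicoherent] (n : ℕ)
    (hfin : FG φ n) : FinAt (dE φ U) (n + 1) := by
  classical
  have hL : (DD U).LocGood := cech_locGood (X := X.toTopCat) U hU.cov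
  have hA := acyclic hU (Coh.structureModule X)
  obtain ⟨k, c, hc⟩ := hfin
  choose z hz using fun i => Data.θ_surjective hL hA n (c i)
  let w : Fin k → E φ U (n + 1) := fun i => (toK φ U n).symm (z i).1
  have hw : ∀ i, toK φ U n (w i) = (z i).1 := fun i => (toK φ U n).apply_symm_apply _
  have hP : Submodule.span A (Set.range w) ≤ LinearMap.ker (dE φ U (n + 1)) := by
    rw [Submodule.span_le]
    rintro _ ⟨i, rfl⟩
    change dS φ U n (w i) = 0
    apply (toK φ U (n + 1)).injective
    rw [toK_dS, map_zero, hw]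
    exact (z i).2
  refine ⟨Submodule.span A (Set.range w), ⟨Finset.univ.image w, by simp⟩, hP, ?_⟩
  intro x hx
  obtain ⟨r, hr⟩ := hc (Data.θ (Coh.toAb (Coh.structureModule X)) hL n (toCyc' φ n x hx))
  let s : E φ U (n + 1) := ∑ i, r i • w i
  have hs : s ∈ Submodule.span A (Set.range w) :=
    Submodule.sum_mem _ fun i _ => Submodule.smul_mem _ _ (Submodule.subset_span ⟨i, rfl⟩)
  have h1 : Data.θ (Coh.toAb (Coh.structureModule X)) hL n (toCyc' φ n s (hP hs)) =
      Data.θ (Coh.toAb (Coh.structureModule X)) hL n (toCyc' φ n x hx) := by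
    rw [hr]
    have h2 : toCyc' φ n s (hP hs) =
        ∑ i, (DD U).kerMap n (Coh.smulAb (Coh.structureModule X) (φ (r i))).hom (z i) := by
      apply Subtype.ext
      change toK φ U n (∑ i, r i • w i) = _
      rw [map_sum, AddSubmonoidClass.coe_finset_sum]
      refine Finset.sum_congr rfl fun i _ => ?_
      rw [toK_smul, hw]
      rfl
    rw [h2, map_sum]
    refine Finset.sum_congr rfl fun i _ => ?_
    rw [Data.θ_naturality, hz]
  have h2 : Data.θ (Coh.toAb (Coh.structureModule X)) hL n
      (toCyc' φ n x hx - toCyc' φ n s (hP hs)) = 0 := by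
    rw [map_sub, h1, sub_self]
  have h3 : x - s ∈ Bd (dE φ U) (n + 1) := by
    cases n with
    | zero =>
      have h4 := Data.θ_zero_injective hL (h2.trans (map_zero _).symm)
      have h5 : toK φ U 0 x - toK φ U 0 s = 0 := congrArg Subtype.val h4
      rw [← map_sub] at h5
      have h6 : x - s = 0 := (toK φ U 0).injective (h5.trans (map_zero _).symm)
      rw [h6]
      exact zero_mem _
    | succ m =>
      obtain ⟨y, hy⟩ := Data.θ_exact hL hA m _ h2
      refine ⟨(toK φ U m).symm y, ?_⟩
      change dS φ U m _ = x - s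
      apply (toK φ U (m + 1)).injective
      rw [toK_dS, AddEquiv.apply_symm_apply, map_sub]
      exact hy
  have h4 : x = s + (x - s) := by abel
  rw [h4]
  exact Submodule.add_mem_sup hs h3

end Groth.Agent.Ega41.CechEFin
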