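import Groth.Agent.Ega41.NagFrameK
import Groth.Agent.Ega41.SepExt
import Mathlib.RingTheory.Smooth.Basic
import Mathlib.RingTheory.Derivation.ToSquareZero
import Mathlib.RingTheory.AdicCompletion.RingHom
import Mathlib.RingTheory.LocalRing.ResidueField.Basic
import Mathlib.Algebra.Algebra.ZMod

/-!
# Coefficient fields containing prescribed lifts of a `p`-basis
-/

set_option autoImplicit false

universe u v

namespace Groth.Agent.Ega41.PBasisSection

open NagFrame IsLocalRing

/-- Every field of characteristic `p` has a `p`-frame attached to a basis of `Ω[K⁄ℤ]` of the form `d y_i`. -/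
theorem exists_pframe_basis (p : ℕ) [Fact p.Prime] (K : Type u) [Field K] [CharP K p] :
    ∃ (ι : Type u) (Φ : PFrame p K ι) (b : Module.Basis ι K (Ω[K⁄ℤ])),
      (∀ i, b i = KaehlerDifferential.D ℤ K (Φ.t i)) ∧
      (∀ i a, Φ.D i a = b.repr (KaehlerDifferential.D ℤ K a) i) := by
  classical
  have hp : p.Prime := Fact.out
  obtain ⟨B, -, -, hspan, hind⟩ := exists_linearIndepOn_extension
    (v := KaehlerDifferential.D ℤ K) (K := K) (s := ∅) (t := Set.univ)
    (linearIndepOn_empty K _) (Set.empty_subset _)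
  let y : B → K := Subtype.val
  have hli : LinearIndependent K (fun i : B => KaehlerDifferential.D ℤ K (y i)) := hind
  have htop : Submodule.span K (Set.range fun i : B => KaehlerDifferential.D ℤ K (y i)) = ⊤ := by
    rw [eq_top_iff, ← KaehlerDifferential.span_range_derivation, Submodule.span_le]
    rintro _ ⟨z, rfl⟩
    have h1 := hspan ⟨z, trivial, rfl⟩
    rw [Set.image_eq_range] at h1
    exact h1
  let b : Module.Basis B K (Ω[K⁄ℤ]) := Module.Basis.mk hli htop.ge
  have hb : ∀ i, b i = KaehlerDifferential.D ℤ K (y i) := fun i => by simp [b]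
  let D : B → Derivation ℤ K K := fun i => (b.coord i).compDer (KaehlerDifferential.D ℤ K)
  have hD : ∀ i a, D i a = b.repr (KaehlerDifferential.D ℤ K a) i := fun i a => rfl
  have hDt : ∀ i j, D i (y j) = if i = j then 1 else 0 := by
    intro i j
    rw [hD, ← hb, b.repr_self, Finsupp.single_apply]
    exact if_congr eq_comm rfl rfl
  have hcomm : ∀ i j a, D i (D j a) = D j (D i a) := by
    intro i j a
    have h0 : ⁅D i, D j⁆ = 0 := by
      apply NagFrameK.derivation_eq_zero_of_span y htop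
      intro k
      rw [Derivation.commutator_apply, hDt, hDt]
      split_ifs <;> simp
    have := DFunLike.congr_fun h0 a
    rw [Derivation.commutator_apply, Derivation.zero_apply, sub_eq_zero] at this
    exact this
  have hnil : ∀ i a, (D i)^[p] a = 0 := by
    intro i a
    have h0 : NagIter.iterP p (D i) = 0 := by
      apply NagFrameK.derivation_eq_zero_of_span y htop
      intro k
      rw [NagIter.iterP_apply]
      obtain ⟨q, hq⟩ : ∃ q, p = q + 2 := ⟨p - 2, by have := hp.two_le; omega⟩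
      rw [hq, Function.iterate_succ_apply, Function.iterate_succ_apply, hDt]
      have : D i (if i = k then 1 else 0) = 0 := by split_ifs <;> simp
      rw [this]
      exact NagFrameK.iterate_zero_of _ (map_zero _) _
    have := DFunLike.congr_fun h0 a
    rwa [NagIter.iterP_apply] at this
  have hconst : ∀ a, (∀ i, D i a = 0) → ∃ c, c ^ p = a := by
    intro a ha
    by_contra hcon
    push Not at hcon
    apply Cartier.D_ne_zero p a hcon
    apply b.repr.injective
    ext i
    rw [← hD, ha, map_zero]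
    rfl
  refine ⟨B, ⟨D, y, ?_, hcomm, hnil, hconst⟩, b, hb, fun i a => rfl⟩
  intro i j
  rw [hDt]
  congr

/-- Derivations with prescribed values on a basis of differentials. -/
theorem exists_derivation_of_basis {K : Type u} [Field K] {ι : Type v} (y : ι → K)
    (b : Module.Basis ι K (Ω[K⁄ℤ])) (hb : ∀ i, b i = KaehlerDifferential.D ℤ K (y i))
    {V : Type*} [AddCommGroup V] [Module K V] (v : ι → V) :
    ∃ D : Derivation ℤ K V, ∀ i, D (y i) = v i := by
  refine ⟨(b.constr K v).compDer (KaehlerDifferential.D ℤ K), fun i => ?_⟩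
  change b.constr K v (KaehlerDifferential.D ℤ K (y i)) = v i
  rw [← hb, Module.Basis.constr_basis]

section Step

variable {k : Type u} [Field k] {C : Type u} [CommRing C]

/-- One step: lift a ring map from a field along a square-zero extension, with prescribed values
on a `p`-basis. -/
theorem exists_lift_step (p : ℕ) [Fact p.Prime] [CharP k p] [CharP C p] {ι : Type v} (y : ι → k)
    (b : Module.Basis ι k (Ω[k⁄ℤ])) (hb : ∀ i, b i = KaehlerDifferential.D ℤ k (y i))
    (N : Ideal C) (hN : N ^ 2 = ⊥) (s : k →+* C ⧸ N) (c : ι → C)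
    (hc : ∀ i, Ideal.Quotient.mk N (c i) = s (y i)) :
    ∃ s' : k →+* C, (Ideal.Quotient.mk N).comp s' = s ∧ ∀ i, s' (y i) = c i := by
  letI : Algebra (ZMod p) k := ZMod.algebra k p
  letI : Algebra (ZMod p) C := ZMod.algebra C p
  haveI := Ega41.SepExt.formallySmooth_of_perfectField (ZMod p) k
  have hs : ∀ r : ZMod p, s (algebraMap (ZMod p) k r) = algebraMap (ZMod p) (C ⧸ N) r := by
    intro r
    exact DFunLike.congr_fun (Subsingleton.elim (s.comp (algebraMap (ZMod p) k))
      (algebraMap (ZMod p) (C ⧸ N))) r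
  let s₀ : k →ₐ[ZMod p] C ⧸ N := { s with commutes' := hs }
  obtain ⟨τ, hτ⟩ := Algebra.FormallySmooth.exists_lift (R := ZMod p) N ⟨2, hN⟩ s₀
  have hτ' : ∀ x, Ideal.Quotient.mk N (τ x) = s x := fun x => DFunLike.congr_fun hτ x
  letI : Algebra k C := τ.toRingHom.toAlgebra
  have halg : ∀ x, algebraMap k C x = τ x := fun x => rfl
  have hmem : ∀ i, c i - τ (y i) ∈ N := by
    intro i
    rw [← Ideal.Quotient.eq_zero_iff_mem, map_sub, hc, hτ', sub_self]
  obtain ⟨D, hD⟩ := exists_derivation_of_basis y b hb (V := N) (fun i => ⟨c i - τ (y i), hmem i⟩)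
  haveI : IsScalarTower ℤ k C := AddCommGroup.intIsScalarTower
  let g := liftOfDerivationToSquareZero (R := ℤ) (A := k) (B := C) N hN D
  have hg : ∀ x, g x = (D x : C) + τ x := fun x => rfl
  refine ⟨g.toRingHom, ?_, ?_⟩
  · ext x
    change Ideal.Quotient.mk N (g x) = s x
    rw [hg, map_add, (Ideal.Quotient.eq_zero_iff_mem).2 (D x).2, zero_add, hτ']
  · intro i
    change g (y i) = c i
    rw [hg, hD]
    simp

/-- One step of the lifting along the powers of the maximal ideal. -/
theorem exists_lift_pow_step (p : ℕ) [Fact p.Prime] [CharP k p] [CharP C p] {ι : Type v} (y : ι → k)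
    (b : Module.Basis ι k (Ω[k⁄ℤ])) (hb : ∀ i, b i = KaehlerDifferential.D ℤ k (y i))
    (m : Ideal C) (hm : m ≠ ⊤) (n : ℕ) (s : k →+* C ⧸ m ^ (n + 1)) (c : ι → C)
    (hc : ∀ i, s (y i) = Ideal.Quotient.mk (m ^ (n + 1)) (c i)) :
    ∃ s' : k →+* C ⧸ m ^ (n + 1 + 1),
      (Ideal.Quotient.factorPow m (n + 1).le_succ).comp s' = s ∧
      ∀ i, s' (y i) = Ideal.Quotient.mk (m ^ (n + 1 + 1)) (c i) := by
  have hle : m ^ (n + 1 + 1) ≤ m ^ (n + 1) := Ideal.pow_le_pow_right (n + 1).le_succ
  have hne : m ^ (n + 1 + 1) ≠ ⊤ := by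
    intro h
    apply hm
    rw [Ideal.eq_top_iff_one] at h ⊢
    exact Ideal.pow_le_self (n + 1).succ_ne_zero h
  haveI : Nontrivial (C ⧸ m ^ (n + 1 + 1)) := Ideal.Quotient.nontrivial_iff.2 hne
  haveI : CharP (C ⧸ m ^ (n + 1 + 1)) p := by
    rw [CharP.charP_iff_prime_eq_zero Fact.out]
    have : ((p : C) : C) = 0 := CharP.cast_eq_zero C p
    rw [← map_natCast (Ideal.Quotient.mk (m ^ (n + 1 + 1))), this, map_zero]
  set N : Ideal (C ⧸ m ^ (n + 1 + 1)) := (m ^ (n + 1)).map (Ideal.Quotient.mk _) with hN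
  have hN2 : N ^ 2 = ⊥ := by
    rw [hN, ← Ideal.map_pow, Ideal.map_eq_bot_iff_le_ker, Ideal.mk_ker, ← pow_mul]
    exact Ideal.pow_le_pow_right (by omega)
  obtain ⟨s', hs', hsc⟩ := exists_lift_step p y b hb N hN2
    ((DoubleQuot.quotQuotEquivQuotOfLE hle).symm.toRingHom.comp s)
    (fun i => Ideal.Quotient.mk _ (c i)) (fun i => by
      change _ = (DoubleQuot.quotQuotEquivQuotOfLE hle).symm (s (y i))
      rw [hc]
      rfl)
  refine ⟨s', ?_, hsc⟩
  ext x
  have h1 : Ideal.Quotient.mk N (s' x) = (DoubleQuot.quotQuotEquivQuotOfLE hle).symm (s x) :=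
    DFunLike.congr_fun hs' x
  obtain ⟨a, ha⟩ := Ideal.Quotient.mk_surjective (s' x)
  have h2 : (DoubleQuot.quotQuotEquivQuotOfLE hle) (Ideal.Quotient.mk N (s' x)) = s x := by
    rw [h1, RingEquiv.apply_symm_apply]
  rw [← h2, ← ha]
  change Ideal.Quotient.factorPow m (n + 1).le_succ (s' x) = _
  rw [← ha]
  rfl

end Step

/-- **Coefficient fields containing prescribed lifts of a `p`-basis.** -/
theorem exists_section (p : ℕ) [Fact p.Prime] {A : Type u} [CommRing A] [IsLocalRing A] [CharP A p]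
    [IsAdicComplete (maximalIdeal A) A] {ι : Type v} (y : ι → ResidueField A)
    (b : Module.Basis ι (ResidueField A) (Ω[ResidueField A⁄ℤ]))
    (hb : ∀ i, b i = KaehlerDifferential.D ℤ (ResidueField A) (y i))
    (c : ι → A) (hc : ∀ i, residue A (c i) = y i) :
    ∃ σ : ResidueField A →+* A, (∀ x, residue A (σ x) = x) ∧ ∀ i, σ (y i) = c i := by
  haveI : CharP (ResidueField A) p := by
    rw [CharP.charP_iff_prime_eq_zero Fact.out, ← map_natCast (residue A), CharP.cast_eq_zero,
      map_zero]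
  set m := maximalIdeal A with hm
  have hmtop : m ≠ ⊤ := (maximalIdeal.isMaximal A).ne_top
  have h01 : m ≤ m ^ (0 + 1) := by simp
  let F : (n : ℕ) → {s : ResidueField A →+* A ⧸ m ^ (n + 1) //
      ∀ i, s (y i) = Ideal.Quotient.mk (m ^ (n + 1)) (c i)} := fun n =>
    Nat.rec (motive := fun n => {s : ResidueField A →+* A ⧸ m ^ (n + 1) //
        ∀ i, s (y i) = Ideal.Quotient.mk (m ^ (n + 1)) (c i)})
      ⟨Ideal.Quotient.factor h01, fun i => by rw [← hc]; rfl⟩
      (fun n s => ⟨(exists_lift_pow_step p y b hb m hmtop n s.1 c s.2).choose,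
        (exists_lift_pow_step p y b hb m hmtop n s.1 c s.2).choose_spec.2⟩) n
  have hF : ∀ n, (Ideal.Quotient.factorPow m (n + 1).le_succ).comp (F (n + 1)).1 = (F n).1 :=
    fun n => (exists_lift_pow_step p y b hb m hmtop n (F n).1 c (F n).2).choose_spec.1
  have ha : StrictMono fun n : ℕ => n + 1 := fun a b h => by simpa using h
  let σ := IsAdicComplete.StrictMono.liftRingHom m ha (fun n => (F n).1) (fun {n} => hF n)
  have hσ : ∀ n x, Ideal.Quotient.mk (m ^ (n + 1)) (σ x) = (F n).1 x := fun n x =>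
    IsAdicComplete.StrictMono.mk_liftRingHom m ha _ _ x
  refine ⟨σ, fun x => ?_, fun i => ?_⟩
  · have h1 := hσ 0 x
    obtain ⟨a, rfl⟩ := residue_surjective x
    have h2 : (F 0).1 (residue A a) = Ideal.Quotient.mk (m ^ (0 + 1)) a := rfl
    rw [h2, Ideal.Quotient.eq, zero_add, pow_one] at h1
    rw [← sub_eq_zero, ← map_sub, residue_eq_zero_iff]
    exact h1
  · rw [← sub_eq_zero]
    apply IsHausdorff.haus (I := m) (M := A) inferInstance
    intro n
    rw [SModEq.zero]
    have h1 := hσ n (y i)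
    rw [(F n).2, Ideal.Quotient.eq] at h1
    rw [smul_eq_mul, Ideal.mul_top]
    exact Ideal.pow_le_pow_right n.le_succ h1

end Groth.Agent.Ega41.PBasisSection
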