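import Groth.Agent.Ega41.FlatCpxTrunc
import Groth.Agent.Ega41.CechEFin

/-!
# Surjective version of `O`-acyclic morphisms to affine schemes, base change and spreading out

`IsAcycS f` for `f : X ⟶ Y`: `Γ(Y) → Γ(X)` is surjective and `H^n(X, O) = 0` for `n > 0`
(to be used for `Y` affine and `f` separated quasi-compact).
-/

set_option autoImplicit false
universe u v

open CategoryTheory TopologicalSpace Opposite Limits AlgebraicGeometry TensorProduct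

namespace Groth.Agent.Ega41.ContrSurj

open Groth.Agent.Ega3B.CubeData Groth.Agent.Ega3B.CombRes Groth.Agent.CohqA.FlatCpx
open Groth.Agent.CohqA.CechZero Groth.Agent.CohqA.CechK Groth.Agent.CohqA.CechE

section One

variable {X : Scheme.{u}} {A : Type u} [CommRing A] (φ : A →+* Γ(X, ⊤))
variable {ι : Type} [LinearOrder ι] [Fintype ι] {U : ι → X.Opens}

theorem exAt_one_iff (hcov : ⨆ i, U i = ⊤) :
    ExAt (fun n => (dE φ U n : E φ U n → E φ U (n + 1))) 1 ↔ Function.Surjective φ := by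
  constructor
  · intro h1 s
    let x : E φ U 1 := fun b => (X.presheaf.map (homOfLE (le_top : (DD U).W 0 b ≤ ⊤)).op).hom s
    have hx : dS φ U 0 x = 0 := by
      apply (toK φ U 1).injective
      rw [toK_dS, map_zero]
      refine (δ_zero_eq_zero_iff (X := X.toTopCat) U _).2 fun i j h => ?_
      change (X.presheaf.map (homOfLE _).op).hom ((X.presheaf.map (homOfLE _).op).hom s) =
        (X.presheaf.map (homOfLE _).op).hom ((X.presheaf.map (homOfLE _).op).hom s)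
      rw [← CommRingCat.comp_apply, ← CommRingCat.comp_apply, ← X.presheaf.map_comp,
        ← X.presheaf.map_comp]
      rfl
    obtain ⟨a, ha⟩ := h1 x hx
    refine ⟨a, ?_⟩
    rw [← sub_eq_zero]
    refine eq_zero_of_res hcov _ fun i => ?_
    rw [map_sub, sub_eq_zero]
    exact congrFun ha (sing (X := X.toTopCat) U i)
  · intro h1 x hx
    obtain ⟨s, hs⟩ := exists_glue φ hcov x hx
    obtain ⟨a, rfl⟩ := h1 s
    exact ⟨a, funext hs⟩

/-- Exactness of the augmented complex in degrees `≥ 1`. -/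
theorem exAt_pos_iff (hU : IsAffCov U) [(Coh.structureModule X).IsQuasicoherent] :
    (∀ n, 1 ≤ n → ExAt (fun n => (dE φ U n : E φ U n → E φ U (n + 1))) n) ↔
      Function.Surjective φ ∧ ∀ n, Subsingleton (Coh.HH X (Coh.structureModule X) (n + 1)) := by
  rw [← exAt_one_iff φ hU.cov]
  constructor
  · intro h
    exact ⟨h 1 le_rfl, fun n => (exAt_succ_succ_iff φ hU n).1 (h (n + 2) (by omega))⟩
  · rintro ⟨h1, h2⟩ n hn
    match n with
    | 0 => exact absurd hn (by omega)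
    | 1 => exact h1
    | n + 2 => exact (exAt_succ_succ_iff φ hU n).2 (h2 n)

end One

/-- surjective version of `IsAcyc` -/
structure IsAcycS {X Y : Scheme.{u}} (f : X ⟶ Y) : Prop where
  surj : Function.Surjective f.appTop.hom
  van : ∀ n, Subsingleton (Coh.HH X (Coh.structureModule X) (n + 1))

theorem isAcycS_iff {X Y : Scheme.{u}} (f : X ⟶ Y)
    {ι : Type} [LinearOrder ι] [Fintype ι] {U : ι → X.Opens} (hU : IsAffCov U) :
    IsAcycS f ↔ ∀ n, 1 ≤ n →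
      ExAt (fun n => (dE f.appTop.hom U n : E f.appTop.hom U n → E f.appTop.hom U (n + 1))) n := by
  have : (Coh.structureModule X).IsQuasicoherent := Fdesc.StructMod.isQCoh_structureModule X
  rw [exAt_pos_iff f.appTop.hom hU]
  exact ⟨fun h => ⟨h.1, h.2⟩, fun h => ⟨h.1, h.2⟩⟩

theorem appLE_top_top {X Y : Scheme.{u}} (f : X ⟶ Y) (h : (⊤ : X.Opens) ≤ f ⁻¹ᵁ ⊤) :
    f.appLE ⊤ ⊤ h = f.appTop := by
  exact (Scheme.Hom.app_eq_appLE (f := f) (U := ⊤)).symm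

/-- cartesian squares of affine schemes -/
theorem isPushout_appTop {Y Y' S S' : Scheme.{u}} {iY : Y' ⟶ Y} {g' : Y' ⟶ S'} {g : Y ⟶ S}
    {r : S' ⟶ S} (H : IsPullback iY g' g r) [IsAffine Y] [IsAffine S] [IsAffine S'] :
    IsPushout r.appTop g.appTop g'.appTop iY.appTop := by
  have h1 := isIso_pushoutSection_of_isAffineOpen H (US := ⊤) (UT := ⊤) (UX := ⊤) (UY := ⊤)
    le_top le_top (by exact (inf_top_eq _).symm) (isAffineOpen_top S) (isAffineOpen_top S')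
    (isAffineOpen_top Y)
  rw [isIso_pushoutSection_iff] at h1
  rw [appLE_top_top, appLE_top_top, appLE_top_top, appLE_top_top] at h1
  exact h1.flip

section BC

variable {X Y S X' Y' S' : Scheme.{u}} {f : X ⟶ Y} {g : Y ⟶ S} {f' : X' ⟶ Y'}
    {g' : Y' ⟶ S'} {iX : X' ⟶ X} {iY : Y' ⟶ Y} {r : S' ⟶ S}
    [Algebra Γ(S, ⊤) Γ(Y, ⊤)] [Algebra Γ(S, ⊤) Γ(S', ⊤)] [Algebra Γ(Y, ⊤) Γ(Y', ⊤)]
    [Algebra Γ(S', ⊤) Γ(Y', ⊤)] [Algebra Γ(S, ⊤) Γ(Y', ⊤)]
    [IsScalarTower Γ(S, ⊤) Γ(Y, ⊤) Γ(Y', ⊤)] [IsScalarTower Γ(S, ⊤) Γ(S', ⊤) Γ(Y', ⊤)]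

theorem hφ_of (a3 : algebraMap Γ(Y, ⊤) Γ(Y', ⊤) = iY.appTop.hom) (w : iX ≫ f = f' ≫ iY) (a : Γ(Y, ⊤)) :
    f'.appTop.hom (algebraMap Γ(Y, ⊤) Γ(Y', ⊤) a) = (iX.app ⊤).hom (f.appTop.hom a) := by
  rw [a3]
  have h1 : f.appTop ≫ iX.appTop = iY.appTop ≫ f'.appTop := by
    rw [← Scheme.Hom.comp_appTop, ← Scheme.Hom.comp_appTop, w]
  exact (congrArg (fun t => t.hom a) h1).symm

theorem isBaseChange_of_sq (HX : IsPullback iX (f' ≫ g') (f ≫ g) r) (HY : IsPullback iY g' g r)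
    (a1 : algebraMap Γ(S, ⊤) Γ(Y, ⊤) = g.appTop.hom) (a2 : algebraMap Γ(S, ⊤) Γ(S', ⊤) = r.appTop.hom)
    (a3 : algebraMap Γ(Y, ⊤) Γ(Y', ⊤) = iY.appTop.hom)
    (a4 : algebraMap Γ(S', ⊤) Γ(Y', ⊤) = g'.appTop.hom)
    (hφ : ∀ a, f'.appTop.hom (algebraMap Γ(Y, ⊤) Γ(Y', ⊤) a) = (iX.app ⊤).hom (f.appTop.hom a))
    [IsAffine Y] [IsAffine S] [IsAffine S'] {ι : Type} [LinearOrder ι] [Fintype ι] {U : ι → X.Opens}
    (hU : IsAffCov U) : ∀ n, IsBaseChange Γ(S', ⊤)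
      (pullE (R := Γ(S, ⊤)) iX f.appTop.hom f'.appTop.hom hφ U n) := by
  have hpush := isPushout_appTop HY
  have hA : IsBaseChange Γ(S', ⊤)
      (IsScalarTower.toAlgHom Γ(S, ⊤) Γ(Y, ⊤) Γ(Y', ⊤)).toLinearMap := by
    have h2 : IsPushout (CommRingCat.ofHom (algebraMap Γ(S, ⊤) Γ(S', ⊤)))
        (CommRingCat.ofHom (algebraMap Γ(S, ⊤) Γ(Y, ⊤)))
        (CommRingCat.ofHom (algebraMap Γ(S', ⊤) Γ(Y', ⊤)))
        (CommRingCat.ofHom (algebraMap Γ(Y, ⊤) Γ(Y', ⊤))) := by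
      rw [a1, a2, a3, a4]
      exact hpush
    exact (CommRingCat.isPushout_iff_isPushout.1 h2).out
  refine isBaseChange_pullE_of_sq iX f.appTop.hom f'.appTop.hom hφ U HX (RingEquiv.refl _)
    (RingEquiv.refl _) ?_ ?_ ?_ hA hU
  · intro x
    rw [a2]
    rfl
  · intro x
    rw [a1]
    exact congrArg (fun t => t.hom x) (Scheme.Hom.comp_appTop f g)
  · intro x
    rw [a4]
    exact congrArg (fun t => t.hom x) (Scheme.Hom.comp_appTop f' g')

end BC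

/-- Base change for `IsAcycS`. -/
theorem IsAcycS.baseChange {X Y S X' Y' S' : Scheme.{u}} {f : X ⟶ Y} {g : Y ⟶ S} {f' : X' ⟶ Y'}
    {g' : Y' ⟶ S'} {iX : X' ⟶ X} {iY : Y' ⟶ Y} {r : S' ⟶ S}
    (HX : IsPullback iX (f' ≫ g') (f ≫ g) r) (HY : IsPullback iY g' g r) (w : iX ≫ f = f' ≫ iY)
    [IsAffine Y] [IsAffine S] [IsAffine S'] [IsSeparated f] [QuasiCompact f] [Flat (f ≫ g)]
    (h : IsAcycS f) : IsAcycS f' := by
  have hiX : IsAffineHom r := isAffineHom_of_isAffine r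
  have hiX : IsAffineHom iX := MorphismProperty.of_isPullback (P := @IsAffineHom) HX.flip hiX
  obtain ⟨k, U, hU⟩ := exists_affCov f
  have hU' := isAffCov_preimage iX hU
  rw [isAcycS_iff f hU] at h
  rw [isAcycS_iff f' hU']
  letI a1 : Algebra Γ(S, ⊤) Γ(Y, ⊤) := g.appTop.hom.toAlgebra
  letI a2 : Algebra Γ(S, ⊤) Γ(S', ⊤) := r.appTop.hom.toAlgebra
  letI a3 : Algebra Γ(Y, ⊤) Γ(Y', ⊤) := iY.appTop.hom.toAlgebra
  letI a4 : Algebra Γ(S', ⊤) Γ(Y', ⊤) := g'.appTop.hom.toAlgebra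
  letI a5 : Algebra Γ(S, ⊤) Γ(Y', ⊤) := (iY ≫ g).appTop.hom.toAlgebra
  have t1 : IsScalarTower Γ(S, ⊤) Γ(Y, ⊤) Γ(Y', ⊤) := IsScalarTower.of_algebraMap_eq fun s => by
    change (iY ≫ g).appTop.hom s = iY.appTop.hom (g.appTop.hom s)
    rw [Scheme.Hom.comp_appTop]
    rfl
  have t2 : IsScalarTower Γ(S, ⊤) Γ(S', ⊤) Γ(Y', ⊤) := IsScalarTower.of_algebraMap_eq fun s => by
    change (iY ≫ g).appTop.hom s = g'.appTop.hom (r.appTop.hom s)
    rw [HY.w, Scheme.Hom.comp_appTop]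
    rfl
  have hφ := hφ_of (f := f) (f' := f') (iX := iX) (iY := iY) rfl w
  have hE := isBaseChange_of_sq HX HY rfl rfl rfl rfl hφ hU
  obtain ⟨N, hN⟩ := subsingleton_E f.appTop.hom U
  intro n hn
  rw [← exAt_baseChange_iff iX f.appTop.hom f'.appTop.hom hφ U hE n]
  refine exAt_rTensor (d := fun n => (dE f.appTop.hom U n).restrictScalars Γ(S, ⊤))
    (dE_dE f.appTop.hom U) ?_ N hN 0 (fun n hn => h n hn) n hn Γ(S', ⊤)
  refine flat_E f.appTop.hom U (RingEquiv.refl _) (p := f ≫ g) ?_ hU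
  intro x
  exact congrArg (fun t => t.hom x) (Scheme.Hom.comp_appTop f g)

end Groth.Agent.Ega41.ContrSurj
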