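import Groth.Agent.CohqA.FlatCpxSpread

/-!
# Truncated version of `FlatCpxLocal` / `FlatCpxSpread`

Exactness in degrees `≥ m₀` only: `A` an `R`-algebra, `A → L` with `L` a field, `K` an `R`-algebra mapping to
`L`, `C` a bounded complex of `A`-modules, `R`-flat in degrees `≥ 1`, with finite cohomology in degrees `≥ m₀`; if
`C ⊗[R] K` is exact in degrees `≥ m₀` then some `a` nonzero in `L` kills the cohomology of `C` in degrees `≥ m₀`.
-/

set_option autoImplicit false

universe u v w

namespace Groth.Agent.Ega41.FlatCpxTrunc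

open TensorProduct LinearMap Groth.Agent.CohqA.FlatCpx

section Local

variable {R : Type u} {A : Type u} {K : Type w} {L : Type w} [CommRing R] [CommRing A]
  [IsLocalRing A] [Algebra R A] [CommRing K] [Algebra R K] [Field L] [Algebra A L] [Algebra R L]
  [IsScalarTower R A L] [IsLocalHom (algebraMap A L)]
  {C : ℕ → Type v} [∀ n, AddCommGroup (C n)] [∀ n, Module A (C n)] [∀ n, Module R (C n)]
  [∀ n, IsScalarTower R A (C n)] {d : ∀ n, C n →ₗ[A] C (n + 1)}

theorem exAt_of_local (φ : K →ₐ[R] L) (m₀ : ℕ)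
    (hdd : ∀ n x, d (n + 1) (d n x) = 0)
    (hflat : ∀ n, 1 ≤ n → Module.Flat R (C n)) (N : ℕ) (hN : ∀ n, N ≤ n → Subsingleton (C n))
    (hfin : ∀ n, m₀ ≤ n → FinAt d n)
    (hK : ∀ n, m₀ ≤ n → ExAt (X := fun n => C n ⊗[R] K)
      (fun n => (((d n).restrictScalars R).rTensor K : _ → _)) n) (n : ℕ) (hn : m₀ ≤ n) :
    ExAt (fun n => (d n : C n → C (n + 1))) n := by
  -- reduction to one step
  suffices H : ∀ m, m₀ ≤ m → (∀ n, m < n → ExAt (fun n => (d n : C n → C (n + 1))) n) →
      ExAt (fun n => (d n : C n → C (n + 1))) m by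
    have : ∀ k m, m₀ ≤ m → m + k = N → ∀ n, m ≤ n → ExAt (fun n => (d n : C n → C (n + 1))) n := by
      intro k
      induction k with
      | zero =>
        intro m hm0 hm n hn
        exact ExAt.of_subsingleton (hN n (by omega))
      | succ k ih =>
        intro m hm0 hm n hn
        rcases Nat.eq_or_lt_of_le hn with rfl | hlt
        · exact H _ hm0 fun n' hn' => ih (m + 1) (by omega) (by omega) n' hn'
        · exact ih (m + 1) (by omega) (by omega) n hlt
    by_cases h : N ≤ n
    · exact ExAt.of_subsingleton (hN n h)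
    · exact this (N - n) n hn (by omega) n le_rfl
  intro m hm0 hex
  let e : ∀ n, C n →ₗ[R] C (n + 1) := fun n => (d n).restrictScalars R
  have hee : ∀ n x, e (n + 1) (e n x) = 0 := hdd
  have hexe : ∀ n, m < n → ExAt (fun n => (e n : C n → C (n + 1))) n := hex
  rw [exAt_iff]
  have := (hfin m hm0).finite
  refine subsingleton_of_tensor (A := A) (K := K) (L := L) φ (Hn d m) ?_
  -- the map from cycles
  let π : ker (e m) →ₗ[R] Hn d m :=
    { toFun := fun x => Submodule.Quotient.mk ⟨x.1, x.2⟩
      map_add' := fun x y => rfl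
      map_smul' := fun r x => rfl }
  have hπ : Function.Surjective π := by
    intro y
    obtain ⟨x, rfl⟩ := Submodule.mkQ_surjective _ y
    exact ⟨⟨x.1, x.2⟩, rfl⟩
  have hπ' := LinearMap.rTensor_surjective K hπ
  cases m with
  | zero =>
    have h1 := subsingleton_rTensor_ker (d := e) hee hflat N hN hexe K (hK 0 hm0)
    exact hπ'.subsingleton
  | succ k =>
    have h1 := surjective_rTensor_toCyc (d := e) hee hflat N hN k hexe K (hK (k + 1) hm0)
    refine subsingleton_of_forall_eq 0 fun x => ?_
    obtain ⟨z, rfl⟩ := hπ' x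
    obtain ⟨w, rfl⟩ := h1 z
    rw [← LinearMap.comp_apply, ← LinearMap.rTensor_comp]
    have h2 : π ∘ₗ toCyc e hee k = 0 := by
      ext x
      apply (Submodule.Quotient.mk_eq_zero _).2
      exact ⟨x, rfl⟩
    rw [h2, LinearMap.rTensor_zero]
    rfl

end Local

section Loc

variable {A : Type u} [CommRing A] (T : Submonoid A)
  {C : ℕ → Type v} [∀ n, AddCommGroup (C n)] [∀ n, Module A (C n)]
  {C' : ℕ → Type w} [∀ n, AddCommGroup (C' n)] [∀ n, Module A (C' n)]
  {d : ∀ n, C n →ₗ[A] C (n + 1)} {d' : ∀ n, C' n →ₗ[A] C' (n + 1)}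
  (g : ∀ n, C n →ₗ[A] C' n) [∀ n, IsLocalizedModule T (g n)]
  (hg : ∀ n x, g (n + 1) (d n x) = d' n (g n x))

include T hg in
theorem exAt_localization (n : ℕ) (h : ExAt (fun n => (d n : C n → C (n + 1))) n) :
    ExAt (fun n => (d' n : C' n → C' (n + 1))) n := by
  rw [exAt_localization_iff T g hg]
  intro x hx
  refine ⟨1, T.one_mem, ?_⟩
  rw [one_smul]
  exact (exAt_iff_ker_le d n).1 h hx

end Loc

section Spread

variable {R : Type u} {A : Type u} {K : Type w} {L : Type w} [CommRing R] [CommRing A]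
  [Algebra R A] [CommRing K] [Algebra R K] [Field L] [Algebra A L] [Algebra R L]
  [IsScalarTower R A L]
  {C : ℕ → Type v} [∀ n, AddCommGroup (C n)] [∀ n, Module A (C n)] [∀ n, Module R (C n)]
  [∀ n, IsScalarTower R A (C n)] {d : ∀ n, C n →ₗ[A] C (n + 1)}

theorem exists_smul_mem_bd (φ : K →ₐ[R] L) (m₀ : ℕ)
    (hdd : ∀ n x, d (n + 1) (d n x) = 0)
    (hflat : ∀ n, 1 ≤ n → Module.Flat R (C n)) (N : ℕ) (hN : ∀ n, N ≤ n → Subsingleton (C n))
    (hfin : ∀ n, m₀ ≤ n → FinAt d n)
    (hK : ∀ n, m₀ ≤ n → ExAt (X := fun n => C n ⊗[R] K)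
      (fun n => (((d n).restrictScalars R).rTensor K : _ → _)) n) :
    ∃ a : A, algebraMap A L a ≠ 0 ∧ ∀ n, m₀ ≤ n → ∀ x, d n x = 0 → a • x ∈ Bd d n := by
  classical
  let q : Ideal A := RingHom.ker (algebraMap A L)
  have hq : q.IsPrime := RingHom.ker_isPrime _
  have hqL : ∀ t : q.primeCompl, IsUnit (algebraMap A L t) := fun t =>
    isUnit_iff_ne_zero.2 t.2
  letI : Algebra (Localization.AtPrime q) L := (IsLocalization.lift (M := q.primeCompl) hqL).toAlgebra
  haveI : IsScalarTower A (Localization.AtPrime q) L := IsScalarTower.of_algebraMap_eq fun a =>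
    (IsLocalization.lift_eq hqL a).symm
  haveI : IsScalarTower R (Localization.AtPrime q) L := IsScalarTower.of_algebraMap_eq fun r => by
    rw [IsScalarTower.algebraMap_apply R A (Localization.AtPrime q),
      ← IsScalarTower.algebraMap_apply A (Localization.AtPrime q) L,
      IsScalarTower.algebraMap_apply R A L]
  haveI : IsLocalHom (algebraMap (Localization.AtPrime q) L) := by
    constructor
    intro x hx
    obtain ⟨a, t, rfl⟩ := IsLocalization.exists_mk'_eq q.primeCompl x
    rw [IsLocalization.AtPrime.isUnit_mk'_iff (S := Localization.AtPrime q) q]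
    change algebraMap A L a ≠ 0
    intro ha
    have h1 : algebraMap (Localization.AtPrime q) L (IsLocalization.mk' _ a t) *
        algebraMap A L t = 0 := by
      rw [IsScalarTower.algebraMap_apply A (Localization.AtPrime q) L, ← map_mul,
        IsLocalization.mk'_spec, ← IsScalarTower.algebraMap_apply, ha]
    exact (hx.mul (hqL t)).ne_zero h1
  let T := q.primeCompl
  let Aq := Localization.AtPrime q
  let C' : ℕ → Type _ := fun n => LocalizedModule T (C n)
  let iR : ∀ n, Module R (C' n) := fun n => inferInstanceAs (Module R (LocalizedModule T (C n)))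
  have iRA : ∀ n, IsScalarTower R A (C' n) := fun n =>
    inferInstanceAs (IsScalarTower R A (LocalizedModule T (C n)))
  have iRAq : ∀ n, IsScalarTower R Aq (C' n) := fun n => IsScalarTower.of_algebraMap_smul fun r x => by
    rw [IsScalarTower.algebraMap_apply R A Aq, algebraMap_smul, algebraMap_smul]
  let g : ∀ n, C n →ₗ[A] C' n := fun n => LocalizedModule.mkLinearMap T (C n)
  let d0 : ∀ n, C' n →ₗ[A] C' (n + 1) := fun n => IsLocalizedModule.map T (g n) (g (n + 1)) (d n)
  let d' : ∀ n, C' n →ₗ[Aq] C' (n + 1) := fun n => (d0 n).extendScalarsOfIsLocalization T Aq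
  have hg : ∀ n x, g (n + 1) (d n x) = d0 n (g n x) := fun n x =>
    (IsLocalizedModule.map_apply T (g n) (g (n + 1)) (d n) x).symm
  have hdd' : ∀ n x, d' (n + 1) (d' n x) = 0 := by
    intro n x'
    obtain ⟨⟨x, t⟩, hx⟩ := IsLocalizedModule.surj T (g n) x'
    change d0 (n + 1) (d0 n x') = 0
    apply IsLocalizedModule.smul_injective (g (n + 2)) t
    change t • d0 (n + 1) (d0 n x') = t • 0
    rw [smul_zero, Submonoid.smul_def, ← map_smul, ← map_smul, ← Submonoid.smul_def, hx, ← hg, ← hg,
      hdd, map_zero]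
  have hflat' : ∀ n, 1 ≤ n → Module.Flat R (C' n) := fun n hn => by
    have := hflat n hn
    exact Flat2B.FlatLocusAux.flat_of_isLocalizedModule_source T (g n)
  have hN' : ∀ n, N ≤ n → Subsingleton (C' n) := fun n hn => by
    have := hN n hn
    refine subsingleton_of_forall_eq 0 fun x' => ?_
    obtain ⟨⟨x, t⟩, hx⟩ := IsLocalizedModule.surj T (g n) x'
    apply IsLocalizedModule.smul_injective (g n) t
    change t • x' = t • 0
    rw [hx, Subsingleton.elim x 0, map_zero, smul_zero]
  have hBd : ∀ n, (Bd d' n : Set (C' n)) = Bd d0 n := by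
    intro n
    cases n with
    | zero => rfl
    | succ n => rfl
  have hfin' : ∀ n, m₀ ≤ n → FinAt d' n := by
    intro n hm0
    obtain ⟨P, ⟨S, rfl⟩, hPk, hk⟩ := hfin n hm0
    refine ⟨Submodule.span Aq (S.image (g n)), ⟨S.image (g n), rfl⟩, ?_, ?_⟩
    · rw [Submodule.span_le]
      intro y hy
      simp only [Finset.coe_image, Set.mem_image] at hy
      obtain ⟨x, hx, rfl⟩ := hy
      change d0 n (g n x) = 0
      rw [← hg, LinearMap.mem_ker.1 (hPk (Submodule.subset_span hx)), map_zero]
    · intro x' hx'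
      obtain ⟨⟨x, t⟩, hx⟩ := IsLocalizedModule.surj T (g n) x'
      have h1 : g (n + 1) (d n x) = 0 := by
        rw [hg, ← hx, Submonoid.smul_def, map_smul]
        change (t : A) • d' n x' = 0
        rw [LinearMap.mem_ker.1 hx', smul_zero]
      obtain ⟨s, hs⟩ := (IsLocalizedModule.eq_zero_iff T (g (n + 1))).1 h1
      rw [Submonoid.smul_def, ← map_smul] at hs
      obtain ⟨p, hp, b, hb, hpb⟩ := Submodule.mem_sup.1 (hk hs)
      have h2 : (s : A) • (t : A) • x' = g n p + g n b := by
        have := congrArg (g n) hpb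
        rw [map_add, map_smul, ← hx] at this
        exact this.symm
      have h3 : g n p ∈ Submodule.span Aq (S.image (g n) : Set (C' n)) := by
        have h4 : g n p ∈ (Submodule.span A (S : Set (C n))).map (g n) := ⟨p, hp, rfl⟩
        rw [Submodule.map_span] at h4
        refine Submodule.span_subset_span A Aq _ ?_
        simpa using h4
      have h5 : g n b ∈ Bd d' n := by
        have h9 := map_mem_bd (d := d) (d' := d0) g hg hb
        have h10 : g n b ∈ (Bd d' n : Set (C' n)) := by
          rw [hBd n]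
          exact h9
        exact h10
      have h6 : (s : A) • (t : A) • x' ∈ Submodule.span Aq (S.image (g n) : Set (C' n)) ⊔ Bd d' n := by
        rw [h2]
        exact Submodule.add_mem_sup h3 h5
      have h7 : IsUnit (algebraMap A Aq ((s : A) * t)) :=
        IsLocalization.map_units Aq (s * t)
      obtain ⟨v, hv⟩ := h7
      have h8 : x' = ((v⁻¹ : Aqˣ) : Aq) • ((s : A) • (t : A) • x') := by
        rw [← mul_smul (s : A), ← algebraMap_smul Aq ((s : A) * t), ← hv, ← mul_smul,
          Units.inv_mul, one_smul]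
      rw [h8]
      exact Submodule.smul_mem _ _ h6
  have hK' : ∀ n, m₀ ≤ n → ExAt (X := fun n => C' n ⊗[R] K)
      (fun n => (((d' n).restrictScalars R).rTensor K : _ → _)) n := by
    intro n hm0
    have h1 := exAt_localization (A := A) T (C := fun n => C n ⊗[R] K)
      (C' := fun n => C' n ⊗[R] K) (d := fun n => AlgebraTensorModule.rTensor R K (d n))
      (d' := fun n => AlgebraTensorModule.rTensor R K (d0 n))
      (fun n => AlgebraTensorModule.rTensor R K (g n)) (by
        intro n x
        induction x using TensorProduct.induction_on with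
        | zero => simp
        | tmul a b =>
          change (g (n + 1) (d n a)) ⊗ₜ[R] b = (d0 n (g n a)) ⊗ₜ[R] b
          rw [hg]
        | add a b ha hb => simp only [map_add, ha, hb]) n (hK n hm0)
    exact h1
  have hex := exAt_of_local (R := R) (A := Aq) (K := K) (L := L) (d := d') φ m₀ hdd' hflat' N hN' hfin' hK'
  have hex0 : ∀ n, m₀ ≤ n → ∀ x, d n x = 0 → ∃ t ∈ T, t • x ∈ Bd d n := by
    intro n hm0
    exact (exAt_localization_iff T g hg n).1 (hex n hm0)
  -- now spread out
  have hone : ∀ n, ∃ a : A, a ∉ q ∧ (m₀ ≤ n → ∀ x, d n x = 0 → a • x ∈ Bd d n) := by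
    intro n
    by_cases hm0 : m₀ ≤ n
    swap
    · exact ⟨1, fun h => hq.ne_top ((Ideal.eq_top_iff_one _).2 h), fun h => absurd h hm0⟩
    obtain ⟨P, ⟨S, rfl⟩, hPk, hk⟩ := hfin n hm0
    have h1 : ∀ s : S, ∃ t ∈ T, t • (s : C n) ∈ Bd d n := fun s =>
      hex0 n hm0 s.1 (hPk (Submodule.subset_span s.2))
    choose t ht ht' using h1
    refine ⟨∏ s : S, t s, ?_, ?_⟩
    · have : (∏ s : S, t s) ∈ T := Submonoid.prod_mem _ fun s _ => ht s
      exact this
    · intro _ x hx
      obtain ⟨p, hp, b, hb, rfl⟩ := Submodule.mem_sup.1 (hk hx)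
      rw [smul_add]
      refine add_mem ?_ (Submodule.smul_mem _ _ hb)
      have h2 : Submodule.span A (S : Set (C n)) ≤
          (Bd d n).comap (LinearMap.lsmul A (C n) (∏ s : S, t s)) := by
        rw [Submodule.span_le]
        intro s hs
        change (∏ s : S, t s) • s ∈ Bd d n
        rw [← Finset.prod_erase_mul Finset.univ t (Finset.mem_univ (⟨s, hs⟩ : S)), mul_smul]
        exact Submodule.smul_mem _ _ (ht' ⟨s, hs⟩)
      exact h2 hp
  choose a ha ha' using hone
  refine ⟨∏ n ∈ Finset.range N, a n, ?_, ?_⟩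
  · have : (∏ n ∈ Finset.range N, a n) ∈ T := Submonoid.prod_mem _ fun n _ => ha n
    exact this
  · intro n hm0 x hx
    by_cases hn : n < N
    · rw [← Finset.prod_erase_mul (Finset.range N) a (Finset.mem_range.2 hn), mul_smul]
      exact Submodule.smul_mem _ _ (ha' n hm0 x hx)
    · have := hN n (by omega)
      rw [Subsingleton.elim ((∏ n ∈ Finset.range N, a n) • x) 0]
      exact zero_mem _

end Spread

end Groth.Agent.Ega41.FlatCpxTrunc
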