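import Groth.Agent.Ega41.PowEval
import Groth.Agent.Ega41.PowComplete
import Mathlib.RingTheory.Ideal.KrullsHeightTheorem
import Mathlib.RingTheory.KrullDimension.NonZeroDivisors
import Mathlib.RingTheory.MvPowerSeries.NoZeroDivisors
import Mathlib.RingTheory.Ideal.AssociatedPrime.Finiteness
import Mathlib.RingTheory.Finiteness.Finsupp
import Mathlib.RingTheory.LocalRing.ResidueField.Basic

/-!
Formal Noether normalization: a complete Noetherian local domain over a field `k₀` with residue field
finite over `k₀` is finite over `k₀[[T_1, …, T_n]]`, `n` its dimension.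
-/

universe u

namespace Groth.Agent.Ega41.NoethNorm

open IsLocalRing

/-- A finite length module over a local ring with residue field finite over `k` is finite over `k`. -/
theorem finite_of_isArtinianRing {k B : Type u} [Field k] [CommRing B] [Algebra k B]
    [IsLocalRing B] [IsArtinianRing B] (h : Module.Finite k (ResidueField B)) : Module.Finite k B := by
  have key : ∀ (M : Type u) [AddCommGroup M] [Module B M] (hM : Module.Finite B M),
      letI : Module k M := Module.compHom M (algebraMap k B)
      Module.Finite k M := by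
    intro M _ _ hM
    induction hM using IsNoetherianRing.induction_on_isQuotientEquivQuotientPrime B with
    | subsingleton N => 
      letI : Module k N := Module.compHom N (algebraMap k B)
      infer_instance
    | quotient N p f => 
      letI : Module k N := Module.compHom N (algebraMap k B)
      haveI : IsScalarTower k B N := ⟨fun x y z ↦ by
        rw [Algebra.smul_def, mul_smul]; rfl⟩
      have hp : p.1 = maximalIdeal B := IsLocalRing.eq_maximalIdeal inferInstance
      have f' : (ResidueField B) ≃ₗ[B] N :=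
        (Submodule.quotEquivOfEq (maximalIdeal B) p.1 hp.symm).trans f.symm
      exact Module.Finite.of_surjective (f'.toLinearMap.restrictScalars k) f'.surjective
    | exact N₁ N₂ N₃ f g hf hg hfg h₁ h₃ => 
      letI : Module k N₁ := Module.compHom N₁ (algebraMap k B)
      letI : Module k N₂ := Module.compHom N₂ (algebraMap k B)
      letI : Module k N₃ := Module.compHom N₃ (algebraMap k B)
      haveI : IsScalarTower k B N₁ := ⟨fun x y z ↦ by
        rw [Algebra.smul_def, mul_smul]; rfl⟩
      haveI : IsScalarTower k B N₂ := ⟨fun x y z ↦ by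
        rw [Algebra.smul_def, mul_smul]; rfl⟩
      haveI : IsScalarTower k B N₃ := ⟨fun x y z ↦ by
        rw [Algebra.smul_def, mul_smul]; rfl⟩
      haveI : Module.Finite k N₁ := h₁
      haveI : Module.Finite k N₃ := h₃
      exact Module.Finite.of_exact (f := f.restrictScalars k) (g := g.restrictScalars k) hfg hg
  have := key B inferInstance
  have e : (Module.compHom B (algebraMap k B) : Module k B) = Algebra.toModule :=
    Module.ext' _ _ fun r x ↦ by
      rw [Algebra.smul_def]
      rfl
  rwa [e] at this


theorem ringKrullDim_le_of_isIntegral {R A : Type*} [CommRing R] [CommRing A] [Algebra R A]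
    [Algebra.IsIntegral R A] : ringKrullDim A ≤ ringKrullDim R := by
  refine Order.krullDim_le_of_strictMono (fun x : PrimeSpectrum A ↦ PrimeSpectrum.comap (algebraMap R A) x) ?_
  intro x y hxy
  exact Ideal.IsIntegral.comap_lt_comap (R := R) (A := A) hxy


/-- Formal Noether normalization. -/
theorem exists_powEval {k₀ A : Type u} [Field k₀] [CommRing A] [IsDomain A] [IsLocalRing A] [IsNoetherianRing A]
    [IsAdicComplete (maximalIdeal A) A] [Algebra k₀ A] [Module.Finite k₀ (ResidueField A)] :
    ∃ (n : ℕ) (x : Fin n → A) (hx : ∀ i, x i ∈ maximalIdeal A), ringKrullDim A = n ∧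
      Function.Injective (Ega41.PowEval.powEval (R := k₀) (maximalIdeal A) x hx) ∧
      IsLocalHom (Ega41.PowEval.powEval (R := k₀) (maximalIdeal A) x hx).toRingHom ∧
      (Ega41.PowEval.powEval (R := k₀) (maximalIdeal A) x hx).toRingHom.Finite := by
  obtain ⟨s, hs, hcard⟩ := Ideal.exists_finset_card_eq_height_of_isNoetherianRing (maximalIdeal A)
  set n := s.card with hn
  let x : Fin n → A := fun i ↦ (s.equivFin.symm i : A)
  have hx : Set.range x = (s : Set A) := by
    ext a
    constructor
    · rintro ⟨i, rfl⟩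
      exact (s.equivFin.symm i).2
    · intro ha
      exact ⟨s.equivFin ⟨a, ha⟩, by simp [x]⟩
  set J : Ideal A := Ideal.span (s : Set A) with hJ
  have hJm : J ≤ maximalIdeal A := hs.1.2
  have hxm : ∀ i, x i ∈ maximalIdeal A := fun i ↦ hJm (Ideal.subset_span (hx ▸ Set.mem_range_self i))
  let w : MvPowerSeries (Fin n) k₀ →ₐ[k₀] A := Ega41.PowEval.powEval (maximalIdeal A) x hxm
  letI : Algebra (MvPowerSeries (Fin n) k₀) A := w.toRingHom.toAlgebra
  have hwalg : ∀ f, algebraMap (MvPowerSeries (Fin n) k₀) A f = w f := fun f ↦ rfl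
  haveI : IsScalarTower k₀ (MvPowerSeries (Fin n) k₀) A := IsScalarTower.of_algebraMap_eq fun r ↦ by
    rw [hwalg, w.commutes]
  set IS : Ideal (MvPowerSeries (Fin n) k₀) := Ideal.span (Set.range MvPowerSeries.X) with hIS
  haveI hScomp : IsAdicComplete IS (MvPowerSeries (Fin n) k₀) := Ega41.PowComplete.isAdicComplete_span_X _ _
  have hmap : IS.map (algebraMap (MvPowerSeries (Fin n) k₀) A) = J := by
    rw [hIS, Ideal.map_span, ← Set.range_comp, hJ, ← hx]
    congr 1
    ext a
    simp only [Set.mem_range, Function.comp_apply, hwalg, w, Ega41.PowEval.powEval_X]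
  have hJtop : J ≠ ⊤ := fun h ↦ (maximalIdeal.isMaximal A).ne_top (top_le_iff.mp (h ▸ hJm))
  haveI hhaus : IsHausdorff IS A := by
    rw [← IsHausdorff.map_algebraMap_iff (S := A), hmap]
    exact IsHausdorff.of_isLocalRing J A hJtop
  -- `A ⧸ J` is finite over `k₀`
  haveI hart : IsArtinianRing (A ⧸ J) := quotient_artinian_of_mem_minimalPrimes_of_isLocalRing J hs
  haveI : Nontrivial (A ⧸ J) := Ideal.Quotient.nontrivial_iff.mpr hJtop
  haveI : IsLocalRing (A ⧸ J) := IsLocalRing.of_surjective' (Ideal.Quotient.mk J) Ideal.Quotient.mk_surjective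
  haveI hloc : IsLocalHom (Ideal.Quotient.mk J) := IsLocalHom.of_surjective _ Ideal.Quotient.mk_surjective
  have hfin0 : Module.Finite k₀ (ResidueField (A ⧸ J)) := by
    let φ : ResidueField A →ₐ[k₀] ResidueField (A ⧸ J) :=
      { ResidueField.map (Ideal.Quotient.mk J) with
        commutes' := fun r ↦ rfl }
    have hφ : Function.Surjective φ := by
      intro y
      obtain ⟨b, rfl⟩ := residue_surjective y
      obtain ⟨a, rfl⟩ := Ideal.Quotient.mk_surjective b
      exact ⟨residue A a, rfl⟩
    exact Module.Finite.of_surjective φ.toLinearMap hφ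
  have hfin1 : Module.Finite k₀ (A ⧸ J) := finite_of_isArtinianRing hfin0
  have hfin : Module.Finite (MvPowerSeries (Fin n) k₀) (A ⧸ (IS • ⊤ : Submodule (MvPowerSeries (Fin n) k₀) A)) := by
    have e : (IS • ⊤ : Submodule (MvPowerSeries (Fin n) k₀) A) =
        J.restrictScalars (MvPowerSeries (Fin n) k₀) := by
      rw [Ideal.smul_top_eq_map, hmap]
    rw [e]
    haveI : Module.Finite (MvPowerSeries (Fin n) k₀) (A ⧸ J) :=
      Module.Finite.of_restrictScalars_finite k₀ _ _
    exact Module.Finite.equiv (Submodule.Quotient.restrictScalarsEquiv (MvPowerSeries (Fin n) k₀) J).symm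
  have hfinA : Module.Finite (MvPowerSeries (Fin n) k₀) A := Ega41.PowComplete.finite_of_complete IS hfin
  have hdimA : ringKrullDim A = n := by
    rw [← maximalIdeal_height_eq_ringKrullDim, ← hcard]
    rfl
  refine ⟨n, x, hxm, hdimA, ?_, ?_, hfinA⟩
  · -- injectivity by dimension
    rw [injective_iff_map_eq_zero]
    intro f hf
    by_contra hf0
    have h1 : ringKrullDim (MvPowerSeries (Fin n) k₀ ⧸ Ideal.span {f}) + 1 ≤
        ringKrullDim (MvPowerSeries (Fin n) k₀) :=
      ringKrullDim_quotient_succ_le_of_nonZeroDivisor (mem_nonZeroDivisors_of_ne_zero hf0)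
    have hmaxS : maximalIdeal (MvPowerSeries (Fin n) k₀) = IS := by
      ext g
      rw [Ega41.PowComplete.mem_span_X_iff, mem_maximalIdeal, mem_nonunits_iff,
        MvPowerSeries.isUnit_iff_constantCoeff, isUnit_iff_ne_zero, not_not]
    have h2 : ringKrullDim (MvPowerSeries (Fin n) k₀) ≤ n := by
      refine (ringKrullDim_le_spanFinrank_maximalIdeal _).trans ?_
      rw [hmaxS, hIS]
      have := Submodule.spanFinrank_span_le_ncard_of_finite
        (R := MvPowerSeries (Fin n) k₀) (M := MvPowerSeries (Fin n) k₀)
        (s := Set.range (MvPowerSeries.X : Fin n → MvPowerSeries (Fin n) k₀)) (Set.finite_range _)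
      have h3 : (Set.range (MvPowerSeries.X : Fin n → MvPowerSeries (Fin n) k₀)).ncard ≤ n := by
        rw [← Set.image_univ]
        refine (Set.ncard_image_le (Set.finite_univ)).trans ?_
        rw [Set.ncard_univ, Nat.card_fin]
      exact_mod_cast this.trans h3
    letI alg : Algebra (MvPowerSeries (Fin n) k₀ ⧸ Ideal.span {f}) A :=
      (Ideal.Quotient.lift (Ideal.span {f}) w.toRingHom (by
        intro a ha
        rw [Ideal.mem_span_singleton'] at ha
        obtain ⟨b, rfl⟩ := ha
        change w (b * f) = 0
        rw [map_mul, hf, mul_zero])).toAlgebra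
    haveI : IsScalarTower (MvPowerSeries (Fin n) k₀) (MvPowerSeries (Fin n) k₀ ⧸ Ideal.span {f}) A :=
      IsScalarTower.of_algebraMap_eq (R := MvPowerSeries (Fin n) k₀)
        (S := MvPowerSeries (Fin n) k₀ ⧸ Ideal.span {f}) (A := A) fun r ↦ rfl
    haveI : Module.Finite (MvPowerSeries (Fin n) k₀ ⧸ Ideal.span {f}) A :=
      Module.Finite.of_restrictScalars_finite (MvPowerSeries (Fin n) k₀) _ _
    have h4 : ringKrullDim A ≤ ringKrullDim (MvPowerSeries (Fin n) k₀ ⧸ Ideal.span {f}) :=
      ringKrullDim_le_of_isIntegral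
    have h5 : ringKrullDim A = n := by
      rw [← maximalIdeal_height_eq_ringKrullDim, ← hcard]
      rfl
    rw [h5] at h4
    have h6 : (n : WithBot ℕ∞) + 1 ≤ n := ((add_le_add_left h4 1).trans h1).trans h2
    have h7 : ((n + 1 : ℕ) : WithBot ℕ∞) ≤ (n : ℕ) := by exact_mod_cast h6
    have h8 : n + 1 ≤ n := by exact_mod_cast h7
    omega
  · refine ⟨fun f hf ↦ ?_⟩
    by_contra hfu
    have h0 : MvPowerSeries.constantCoeff f = 0 := by
      by_contra h0
      exact hfu (MvPowerSeries.isUnit_iff_constantCoeff.mpr (isUnit_iff_ne_zero.mpr h0))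
    have h1 : f ∈ IS := (Ega41.PowComplete.mem_span_X_iff _ _ f).mpr h0
    have h2 : w f ∈ J := hmap ▸ Ideal.mem_map_of_mem _ h1
    exact (hJm h2) hf


end Groth.Agent.Ega41.NoethNorm
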