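import Groth.Agent.Ega41.NagFrame
import Mathlib.RingTheory.MvPowerSeries.Derivative
import Mathlib.RingTheory.MvPowerSeries.NoZeroDivisors
import Mathlib.RingTheory.Localization.FractionRing
import Mathlib.LinearAlgebra.FiniteDimensional.Defs
import Mathlib.LinearAlgebra.Dimension.Finrank
import Mathlib.Algebra.Field.Subfield.Basic
import Mathlib.RingTheory.Derivation.ToSquareZero
import Mathlib.RingTheory.LocalRing.ResidueField.Ideal
import Mathlib.RingTheory.RegularLocalRing.Defs
import Mathlib.RingTheory.Kaehler.Basic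
import Mathlib.FieldTheory.Perfect
import Groth.Prelude.Def_CAlgX
import Mathlib.RingTheory.Ideal.Cotangent
import Mathlib.LinearAlgebra.Matrix.Determinant.Basic

/-! Skeleton for S2480 -/

set_option autoImplicit false

universe u v

namespace Groth.Agent.Ega41.NagSkel

open NagFrame

/-! ### TASK T (file NagTaylor.lean) -/

/-- The reduced monomials in `t i`, `i ∈ F`, span `A` over the constants of `D i`, `i ∈ F`.
Proof: induction on `F`; one derivation `D` with `D^[p] = 0`, `D t = 1`: `g = ∑ b < p, t^b / b! * π (D^b g)` where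
`π g = ∑ j < p, (-t)^j / j! * D^j g` is killed by `D` (and `π` commutes with the other derivations). -/
theorem span_monomials {p : ℕ} {A : Type u} [CommRing A] {ι : Type v} [Fact p.Prime] [CharP A p]
    (Φ : PFrame p A ι) (F : Finset ι) :
    Submodule.span (Φ.constants F) (Set.range fun b : F → Fin p => ∏ i : F, Φ.t i ^ (b i : ℕ)) = ⊤ := sorry

/-! ### TASK A (file NagFrameK.lean) -/

/-- Every field of characteristic `p` has a `p`-frame: choose a basis of `Ω[K⁄ℤ]` of the form `d y_i`. -/
theorem exists_pframe (p : ℕ) [Fact p.Prime] (K : Type u) [Field K] [CharP K p] :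
    ∃ (ι : Type u) (Φ : PFrame p K ι),
      (∀ (M : Type u) [AddCommGroup M] [Module K M] (D : Derivation ℤ K M), (∀ i, D (Φ.t i) = 0) → D = 0) ∧
      (Module.Finite (frobenius K p).fieldRange K → Finite ι) := sorry

/-! ### TASK B (file NagFramePS.lean) -/

/-- The frame on power series. -/
noncomputable def frameMvPowerSeries (p : ℕ) [Fact p.Prime] {K : Type u} [Field K] [CharP K p] {ι : Type u}
    (Φ : PFrame p K ι) (n : ℕ) : PFrame p (MvPowerSeries (Fin n) K) (Fin n ⊕ ι) := sorry

theorem frame_D_inl (p : ℕ) [Fact p.Prime] {K : Type u} [Field K] [CharP K p] {ι : Type u}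
    (Φ : PFrame p K ι) (n : ℕ) (i : Fin n) (f : MvPowerSeries (Fin n) K) :
    (frameMvPowerSeries p Φ n).D (Sum.inl i) f = MvPowerSeries.pderiv K i f := sorry

theorem coeff_frame_D_inr (p : ℕ) [Fact p.Prime] {K : Type u} [Field K] [CharP K p] {ι : Type u}
    (Φ : PFrame p K ι) (n : ℕ) (j : ι) (f : MvPowerSeries (Fin n) K) (e : Fin n →₀ ℕ) :
    MvPowerSeries.coeff e ((frameMvPowerSeries p Φ n).D (Sum.inr j) f) = Φ.D j (MvPowerSeries.coeff e f) := sorry

theorem frame_t_inl (p : ℕ) [Fact p.Prime] {K : Type u} [Field K] [CharP K p] {ι : Type u}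
    (Φ : PFrame p K ι) (n : ℕ) (i : Fin n) :
    (frameMvPowerSeries p Φ n).t (Sum.inl i) = MvPowerSeries.X i := sorry

theorem frame_t_inr (p : ℕ) [Fact p.Prime] {K : Type u} [Field K] [CharP K p] {ι : Type u}
    (Φ : PFrame p K ι) (n : ℕ) (j : ι) :
    (frameMvPowerSeries p Φ n).t (Sum.inr j) = MvPowerSeries.C (Φ.t j) := sorry

/-! ### TASK C (file NagFrac.lean) -/

section Frac

variable {p : ℕ} [Fact p.Prime] {A : Type u} [CommRing A] [IsDomain A] [CharP A p] {ι : Type v} (Φ : PFrame p A ι)
  (L : Type u) [Field L] [Algebra A L] [IsFractionRing A L]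

/-- The subfield of the fraction field generated by the constants. -/
def constField (F : Finset ι) : Subfield L := Subfield.closure (algebraMap A L '' (Φ.constants F : Set A))

theorem mem_constField_iff (F : Finset ι) (x : L) :
    x ∈ constField Φ L F ↔ ∃ a ∈ Φ.constants F, ∃ b : A, b ≠ 0 ∧ x * algebraMap A L b ^ p = algebraMap A L a := sorry

theorem constField_anti : Antitone (constField Φ L) := sorry

theorem pow_mem_constField (F : Finset ι) (x : L) : x ^ p ∈ constField Φ L F := sorry

theorem exists_pow_eq_of_mem_constField {J : Type*} (G : J → Finset ι) (hG : ∀ i, ∃ j, i ∈ G j) (x : L)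
    (hx : ∀ j, x ∈ constField Φ L (G j)) : ∃ y, y ^ p = x := sorry

theorem finrank_constField (F : Finset ι) :
    FiniteDimensional (constField Φ L F) L ∧ Module.finrank (constField Φ L F) L ≤ p ^ F.card := sorry

end Frac

/-! ### TASK D (file NagExt.lean): passing to a finite extension `M` of `L` -/

section Ext

variable {L M : Type u} [Field L] [Field M] [Algebra L M] [FiniteDimensional L M] (p : ℕ) [Fact p.Prime]
  [CharP L p] [CharP M p] {J : Type v} [Preorder J] [IsDirected J (· ≤ ·)] [Nonempty J]

/-- The compositum of (the image of) `E` and `M ^ p` in `M`. -/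
def powSup (E : Subfield L) : Subfield M := E.map (algebraMap L M) ⊔ (frobenius M p).fieldRange

theorem exists_forall_finrank_powSup_le (E : J → Subfield L) (hE : Antitone E) (hpow : ∀ j x, x ^ p ∈ E j)
    (hinter : ∀ x, (∀ j, x ∈ E j) → ∃ y, y ^ p = x) (hfin : ∀ j, FiniteDimensional (E j) L) :
    ∃ j₀, ∀ j, j₀ ≤ j → FiniteDimensional (powSup p (E j) : Subfield M) M ∧
      Module.finrank (powSup p (E j) : Subfield M) M ≤ Module.finrank (E j) L := sorry

theorem exists_pow_eq_of_mem_powSup (E : J → Subfield L) (hE : Antitone E) (hpow : ∀ j x, x ^ p ∈ E j)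
    (hinter : ∀ x, (∀ j, x ∈ E j) → ∃ y, y ^ p = x) (x : M) (hx : ∀ j, x ∈ (powSup p (E j) : Subfield M)) :
    ∃ y, y ^ p = x := sorry

end Ext

/-! ### TASK E (file NagDer.lean) -/

section Der

variable {M : Type u} [Field M] (p : ℕ) [Fact p.Prime] [CharP M p]

/-- `M ^ p ⊆ G` and `[M : G] ≤ p ^ r`: at most `r` linearly independent derivations of `M` kill `G`. -/
theorem card_le_of_linearIndependent_derivations (G : Subfield M) (hG : ∀ x, x ^ p ∈ G)
    [FiniteDimensional G M] (r : ℕ) (hr : Module.finrank G M ≤ p ^ r) {s : ℕ} (D : Fin s → Derivation ℤ M M)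
    (hD : ∀ i, ∀ x ∈ G, D i x = 0) (hli : LinearIndependent M D) : s ≤ r := sorry

/-- Density: the derivations killing some `G j`, `j ≥ j₀`, are dense in all derivations when `⋂ G j = M ^ p`
(from S2475 with `k₀` the prime field). -/
theorem density_field {J : Type u} [Preorder J] [IsDirected J (· ≤ ·)] [Nonempty J] (G : J → Subfield M)
    (hG : Antitone G) (hinter : ∀ x, (∀ j, x ∈ G j) → ∃ y, y ^ p = x) (hpow : ∀ j x, x ^ p ∈ G j) (j₀ : J) {m : ℕ}
    (c z : Fin m → M)
    (h : ∀ j, j₀ ≤ j → ∀ D : Derivation ℤ M M, (∀ x ∈ G j, D x = 0) → ∑ i, c i * D (z i) = 0)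
    (D : Derivation ℤ M M) : ∑ i, c i * D (z i) = 0 := sorry

end Der

/-! ### TASK F (file NagSurj.lean): linear algebra at a regular point -/

section Surj

open IsLocalRing

/-- Let `A_P` be regular local and `D_i`, `i ∈ ι`, `#ι = N + r`, derivations of `A`, such that the space `K` of those
`l` with `∑ l_i D_i` mapping `P` to `0` in `κ` has dimension at most `d + r`, where `ht P + d ≤ N`.  Then every
derivation `A → κ` agrees on `P` with a combination of the `D_i`; and `K` has dimension exactly `d + r`. -/
theorem exists_combination {A : Type u} [CommRing A] [IsNoetherianRing A] (P : Ideal A) [P.IsPrime]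
    [IsRegularLocalRing (Localization.AtPrime P)] {κ : Type u} [Field κ] [Algebra A κ]
    (hker : RingHom.ker (algebraMap A κ) = P) {ι : Type v} [Fintype ι] (D : ι → Derivation ℤ A A)
    (N d r : ℕ) (hN : ringKrullDim (Localization.AtPrime P) + d ≤ N) (hcard : Fintype.card ι = N + r)
    (K : Submodule κ (ι → κ))
    (hK : ∀ l, l ∈ K ↔ ∀ a ∈ P, ∑ i, l i * algebraMap A κ (D i a) = 0)
    (hKr : Module.finrank κ K ≤ d + r) :
    Module.finrank κ K = d + r ∧
    ∀ δ : Derivation ℤ A κ, ∃ l : ι → κ, ∀ a ∈ P, δ a = ∑ i, l i * algebraMap A κ (D i a) := sorry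

end Surj

/-! ### TASK G (file NagAbs.lean): density theorem for `K[[T_1..T_n]]` (captain) -/

theorem abs_density (p : ℕ) [Fact p.Prime] {K : Type u} [Field K] [CharP K p] (n : ℕ) {A : Type u} [CommRing A]
    (e : A ≃+* MvPowerSeries (Fin n) K) {κ : Type u} [Field κ] [Algebra A κ]
    (hfrac : ∀ x : κ, ∃ a b : A, algebraMap A κ b ≠ 0 ∧ x * algebraMap A κ b = algebraMap A κ a)
    {m : ℕ} (f : Fin m → A) (c : Fin m → κ)
    (h : ∀ D : Derivation ℤ A A, ∑ j, c j * algebraMap A κ (D (f j)) = 0)
    (δ : Derivation ℤ A κ) : ∑ j, c j * δ (f j) = 0 := sorry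

/-! ### TASK H (file NagZero.lean): characteristic zero analogue -/

theorem surj_charZero {K : Type u} [Field K] [CharZero K] (n : ℕ) {A : Type u} [CommRing A] [Algebra K A]
    (e : A ≃ₐ[K] MvPowerSeries (Fin n) K) {κ : Type u} [Field κ] [Algebra A κ]
    (hfrac : ∀ x : κ, ∃ a b : A, algebraMap A κ b ≠ 0 ∧ x * algebraMap A κ b = algebraMap A κ a)
    (δ : Derivation ℤ A κ) :
    ∃ (s : ℕ) (l : Fin s → κ) (D : Fin s → Derivation K A A),
      ∀ a : A, algebraMap A κ a = 0 → δ a = ∑ i, l i * algebraMap A κ (D i a) := sorry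

/-! ### TASK I (file NagFS.lean): formal smoothness and derivations -/

section FS

open IsLocalRing

/-- Derivations of `k` into a complete formally smooth algebra extend (lift `x ↦ x + D x ε` step by step mod `m^n`). -/
theorem exists_derivation_extension {k A : Type u} [Field k] [CommRing A] [IsLocalRing A] [IsNoetherianRing A]
    [IsAdicComplete (maximalIdeal A) A] [Algebra k A] (hA : CAlgX.IsAdicFormallySmooth k A (maximalIdeal A))
    (D : Derivation ℤ k A) : ∃ D' : Derivation ℤ A A, ∀ x : k, D' (algebraMap k A x) = D x := sorry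

/-- S2471 in terms of derivations (dualize the injection over the field `ResidueField R`). -/
theorem isAdicFormallySmooth_iff_derivation {k R : Type u} [Field k] [CommRing R] [IsLocalRing R]
    [IsNoetherianRing R] [Algebra k R] :
    CAlgX.IsAdicFormallySmooth k R (maximalIdeal R) ↔ IsRegularLocalRing R ∧
      ∀ D : Derivation ℤ k (ResidueField R), ∃ D' : Derivation ℤ R (ResidueField R),
        ∀ x : k, D' (algebraMap k R x) = D x := sorry

/-- `R / m ^ 2` has a coefficient field, so functionals on `m / m ^ 2` come from derivations. -/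
theorem exists_derivation_cotangent {k R : Type u} [Field k] [CommRing R] [IsLocalRing R] [Algebra k R]
    (φ : CotangentSpace R →ₗ[ResidueField R] ResidueField R) :
    ∃ δ : Derivation ℤ R (ResidueField R), ∀ x : maximalIdeal R,
      δ (x : R) = φ ((maximalIdeal R).toCotangent x) := sorry

end FS

/-! ### TASK J (file NagEasy.lean): the easy direction -/

section Easy

open IsLocalRing

/-- If `R` is adically formally smooth over `k`, `f_j ∈ R` and `D_i` are `k`-derivations of `R` with `det (D_i f_j)` a
unit, and `S` is the quotient of `R` by `(f_j)`, then `S` is adically formally smooth over `k`: correct a lift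
`v : R → C` by the derivation `∑ v(f_j) v((M⁻¹)_{ji}) v(D_i -)`. -/
theorem isAdicFormallySmooth_of_det {k R S : Type u} [Field k] [CommRing R] [IsLocalRing R] [Algebra k R]
    [CommRing S] [IsLocalRing S] [Algebra k S] (hR : CAlgX.IsAdicFormallySmooth k R (maximalIdeal R))
    (π : R →ₐ[k] S) (hπ : Function.Surjective π) {m : ℕ} (D : Fin m → Derivation k R R) (f : Fin m → R)
    (hker : RingHom.ker π = Ideal.span (Set.range f)) (hdet : IsUnit (Matrix.det (Matrix.of fun i j => D i (f j)))) :
    CAlgX.IsAdicFormallySmooth k S (maximalIdeal S) := sorry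

/-- Extending a derivation to a localization. -/
theorem exists_derivation_localization {k A : Type u} [CommRing k] [CommRing A] [Algebra k A] (P : Ideal A) [P.IsPrime]
    (D : Derivation k A A) : ∃ D' : Derivation k (Localization.AtPrime P) (Localization.AtPrime P),
      ∀ a, D' (algebraMap A _ a) = algebraMap A _ (D a) := sorry

/-- Extending a derivation to a localization, with values in a module. -/
theorem exists_derivation_localization' {k A : Type u} [CommRing k] [CommRing A] [Algebra k A] (P : Ideal A) [P.IsPrime]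
    {M : Type u} [AddCommGroup M] [Module k M] [Module A M] [Module (Localization.AtPrime P) M]
    [IsScalarTower A (Localization.AtPrime P) M] [IsScalarTower k A M]
    (D : Derivation k A M) : ∃ D' : Derivation k (Localization.AtPrime P) M,
      ∀ a, D' (algebraMap A _ a) = D a := sorry

/-- If `R` and `R ⧸ I` are regular then a minimal generating family of `I` is linearly independent in `m / m ^ 2`
(use `RegFlat.spanFinrank_add_le`). -/
theorem linearIndependent_of_regular {R : Type u} [CommRing R] [IsRegularLocalRing R] (I : Ideal R) (hI : I ≤ maximalIdeal R)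
    [IsRegularLocalRing (R ⧸ I)] {m : ℕ} (f : Fin m → R) (hf : ∀ i, f i ∈ I)
    (hli : ∀ g : Fin m → R, ∑ i, g i * f i ∈ maximalIdeal R • I → ∀ i, g i ∈ maximalIdeal R) :
    LinearIndependent (ResidueField R) (fun i => (maximalIdeal R).toCotangent ⟨f i, hI (hf i)⟩) := sorry

end Easy

end Groth.Agent.Ega41.NagSkel
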